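import Cfsg.Agent.Lib.H12.Co3M.Letters
import Cfsg.Agent.Lib.H12.Co3M.Ct.Run
import Cfsg.Agent.Lib.H12.Co3M.Ct.Lists

set_option autoImplicit false
set_option maxRecDepth 100000

/-!
# The monomial certificate of `Co3 = ⟨s, d, u, c⟩` over `M23 = ⟨s, d, u⟩` (helper12, generated glue)

`Setting gs gd gu gc A`: the exact relators hold for `gs gd gu gc`, all other relators have values in the
central subgroup `A` of exponent dividing `279936000`, which meets `⟨gs, gd, gu⟩` trivially, and `gs gd gu gc`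
generate.  Conclusion: `⟨gs, gd, gu⟩` has at most `48600` cosets.
-/

namespace Cfsg.Agent.Lib.H12.Co3M

open Cfsg.Agent.Lib.H17.CosetCert (WT act)
open Cfsg.Agent.Lib.H17.MonoCert
open Cfsg.Agent.Lib.H12.J3M

section

variable {Γ : Type*} [Group Γ] (gs gd gu gc : Γ)

/-- the hypotheses on the group -/
structure Setting (A : Subgroup Γ) : Prop where
  central : A ≤ Subgroup.center Γ
  disj : ∀ x ∈ Subgroup.closure {gs, gd, gu}, x ∈ A → x = 1
  exact : ∀ w ∈ Ct.exactL, wv4 gs gd gu gc w = 1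
  rel : ∀ w ∈ Ct.symL ++ Ct.cenL, wv4 gs gd gu gc w ∈ A
  gen : Subgroup.closure {gs, gd, gu, gc} = ⊤
  tors : ∀ z ∈ A, z ^ 279936000 = 1

theorem wv4_pair : ∀ w ∈ Ct.pairL, wv4 gs gd gu gc w = 1 := by
  intro w hw
  simp only [Ct.pairL, List.mem_cons, List.not_mem_nil, or_false] at hw
  rcases hw with rfl | rfl | rfl | rfl | rfl | rfl | rfl | rfl <;> simp [wv4, gl4]

variable {gs gd gu gc}

theorem Setting.rel_all {A : Subgroup Γ} (S : Setting gs gd gu gc A) :
    ∀ w ∈ Ct.relL, wv4 gs gd gu gc w ∈ A := by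
  intro w hw
  rcases Ct.rel_cases w hw with h | h
  · rcases List.mem_append.mp h with h1 | h1
    · rw [S.exact w h1]; exact one_mem _
    · rw [wv4_pair gs gd gu gc w h1]; exact one_mem _
  · exact S.rel w h

end

section main

variable {Γ : Type*} [Group Γ] {gs gd gu gc : Γ} {A : Subgroup Γ}

open Classical in
/-- the inverse of the value of a word, as an element of `A` (`1` if the value is not in `A`) -/
noncomputable def ρA (gs gd gu gc : Γ) (A : Subgroup Γ) (w : List ℕ) : A :=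
  if h : wv4 gs gd gu gc w ∈ A then ⟨(wv4 gs gd gu gc w)⁻¹, A.inv_mem h⟩ else 1

theorem ρA_coe (w : List ℕ) (h : wv4 gs gd gu gc w ∈ A) :
    ((ρA gs gd gu gc A w : A) : Γ) = (wv4 gs gd gu gc w)⁻¹ := by
  unfold ρA
  rw [dif_pos h]

theorem gens_top (S : Setting gs gd gu gc A) :
    Subgroup.closure {g : Γ | ∃ x < 8, g = (gl4 gs gd gu gc x)⁻¹} = ⊤ := by
  rw [eq_top_iff, ← S.gen, Subgroup.closure_le]
  intro g hg
  simp only [Set.mem_insert_iff, Set.mem_singleton_iff] at hg
  apply Subgroup.subset_closure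
  rcases hg with rfl | rfl | rfl | rfl
  · exact ⟨1, by norm_num, by simp [gl4]⟩
  · exact ⟨3, by norm_num, by simp [gl4]⟩
  · exact ⟨5, by norm_num, by simp [gl4]⟩
  · exact ⟨7, by norm_num, by simp [gl4]⟩

theorem letters_inv : ∀ x < 8, ∃ y < 8, (gl4 gs gd gu gc y)⁻¹ = ((gl4 gs gd gu gc x)⁻¹)⁻¹ := by
  intro x hx
  interval_cases x
  · exact ⟨1, by norm_num, by simp [gl4]⟩
  · exact ⟨0, by norm_num, by simp [gl4]⟩
  · exact ⟨3, by norm_num, by simp [gl4]⟩
  · exact ⟨2, by norm_num, by simp [gl4]⟩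
  · exact ⟨5, by norm_num, by simp [gl4]⟩
  · exact ⟨4, by norm_num, by simp [gl4]⟩
  · exact ⟨7, by norm_num, by simp [gl4]⟩
  · exact ⟨6, by norm_num, by simp [gl4]⟩

/-- the list of the symbol values -/
noncomputable def ζs (gs gd gu gc : Γ) (A : Subgroup Γ) : List A := Ct.symL.map (ρA gs gd gu gc A)

theorem wordsOK (S : Setting gs gd gu gc A) :
    letI := commGroupOfCentral A S.central
    haveI := smulComm_of_central A (Subgroup.closure {gs, gd, gu}) S.central
    WordsOK Ct.Ev (ltw (ζs gs gd gu gc A)) (fun x => (gl4 gs gd gu gc x)⁻¹)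
      (((1 : Γ) : Γ ⧸ Subgroup.closure {gs, gd, gu})) Ct.words 803 := by
  let _ := commGroupOfCentral A S.central
  intro w wd r hget
  have hm := WT.get_mem Ct.words w (wd, r) hget
  obtain ⟨h1, h2⟩ := Ct.words_mem _ hm
  refine ⟨fun hr => ?_, fun hr hw => ?_, fun hr => ?_⟩
  · have hA := S.rel_all wd (h1 hr)
    refine ⟨⟨(wv4 gs gd gu gc wd)⁻¹, A.inv_mem hA⟩, fun q => ?_⟩
    rw [act_inv]
    rfl
  · subst hr
    have hs := Ct.seed_mem w hw
    unfold Ct.seedChk at hs
    rw [hget] at hs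
    simp only [decide_eq_true_eq] at hs
    intro q
    rw [act_inv]
    rcases Ct.seed_cases _ hs with ⟨he, hmem⟩ | hz
    · simp only [] at he hmem
      have hv : wv4 gs gd gu gc wd = 1 := by
        rcases List.mem_append.mp hmem with h | h
        · exact S.exact wd h
        · exact wv4_pair gs gd gu gc wd h
      change (wv4 gs gd gu gc wd)⁻¹ • q = _
      rw [hv, he, ltw_replicate_zero, inv_one, one_smul, one_smul]
    · simp only [Ct.symL, Ct.unitL, List.zip_cons_cons, List.zip_nil_right, List.mem_cons,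
        Prod.mk.injEq, List.not_mem_nil, or_false] at hz
      have key : ∀ wd' (hwd : wd' ∈ Ct.symL ++ Ct.cenL) (e : List ℤ),
          ltw (ζs gs gd gu gc A) e = ρA gs gd gu gc A wd' → wd = wd' → Ct.Ev w = e →
          ((List.map (gl4 gs gd gu gc) wd).prod)⁻¹ • q = ltw (ζs gs gd gu gc A) (Ct.Ev w) • q := by
        intro wd' hwd e he hw1 hw2
        rw [hw2, he, hw1]
        change _ = ((ρA gs gd gu gc A wd' : A) : Γ) • q
        rw [ρA_coe wd' (S.rel wd' hwd)]
        rfl
      rcases hz with ⟨a, b⟩ | ⟨a, b⟩ | ⟨a, b⟩ | ⟨a, b⟩ | ⟨a, b⟩ | ⟨a, b⟩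
      · exact key _ (by decide +kernel) _ (by simp [ζs, Ct.symL, ltw]) a b
      · exact key _ (by decide +kernel) _ (by simp [ζs, Ct.symL, ltw]) a b
      · exact key _ (by decide +kernel) _ (by simp [ζs, Ct.symL, ltw]) a b
      · exact key _ (by decide +kernel) _ (by simp [ζs, Ct.symL, ltw]) a b
      · exact key _ (by decide +kernel) _ (by simp [ζs, Ct.symL, ltw]) a b
      · exact key _ (by decide +kernel) _ (by simp [ζs, Ct.symL, ltw]) a b
  · have hsub := h2 hr
    rw [act_inv]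
    have hmem : (List.map (gl4 gs gd gu gc) wd).prod ∈ Subgroup.closure {gs, gd, gu} := by
      simp only [Ct.subL, List.mem_cons, List.not_mem_nil, or_false] at hsub
      rcases hsub with rfl | rfl | rfl <;>
        simp only [List.map_cons, List.map_nil, List.prod_cons, List.prod_nil, mul_one, gl4] <;>
        exact Subgroup.subset_closure (by simp)
    rw [MulAction.Quotient.smul_mk, QuotientGroup.eq]
    simpa using hmem

end main

section final

variable {Γ : Type*} [Group Γ] {gs gd gu gc : Γ} {A : Subgroup Γ}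

/-- **Main theorem of the certificate.** -/
theorem mono_main (S : Setting gs gd gu gc A) :
    Finite (Γ ⧸ Subgroup.closure {gs, gd, gu}) ∧ Nat.card (Γ ⧸ Subgroup.closure {gs, gd, gu}) ≤ 48600 := by
  let _ := commGroupOfCentral A S.central
  have := smulComm_of_central A (Subgroup.closure {gs, gd, gu}) S.central
  set Q := Γ ⧸ Subgroup.closure {gs, gd, gu} with hQ
  set q0 : Q := ((1 : Γ) : Q) with hq0
  set tw : List ℤ → A := ltw (ζs gs gd gu gc A) with htw_def
  set γ : ℕ → Γ := fun x => (gl4 gs gd gu gc x)⁻¹ with hγ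
  have htw : TwOK ladd (List.replicate 6 0) leq tw := ltw_ok _ 6
  have hfree : ∀ (α β : A) (q : Q), α • q = β • q → α = β :=
    free_of_disj A (Subgroup.closure {gs, gd, gu}) S.central S.disj
  have hw := wordsOK S
  have hI := Ct.run tw γ hfree htw q0 hw
  obtain ⟨c, hc0, hwords, hcov⟩ := covered Ct.F Ct.Ev 8 524288 tw γ q0 Ct.words 388800 48600 867
    hI Ct.rows Ct.rows_ok Ct.rows_length (gens_top S) letters_inv
  -- the relations
  have hrel : ∀ p ∈ Ct.relPairs, tw p.2.2 = 1 := by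
    intro p hp
    have hchk := Ct.rel_chk p hp
    unfold Ct.relChk at hchk
    rcases h1 : WT.get Ct.words p.1 with _ | ⟨wd1, r1⟩
    · rw [h1] at hchk; exact absurd hchk (by simp)
    · rcases h2 : WT.get Ct.words p.2.1 with _ | ⟨wd2, r2⟩
      · rw [h1, h2] at hchk
        cases r1 <;> exact absurd hchk (by simp)
      · rw [h1, h2] at hchk
        cases r1 with
        | false => exact absurd hchk (by simp)
        | true =>
          cases r2 with
          | false => exact absurd hchk (by simp)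
          | true =>
            simp only [Bool.and_eq_true, decide_eq_true_eq] at hchk
            obtain ⟨⟨⟨hwd, hev⟩, hlt1⟩, hlt2⟩ := hchk
            subst hwd
            have e1 := hwords p.1 hlt1 wd1 h1 q0
            have e2 := hwords p.2.1 hlt2 wd1 h2 q0
            have e3 : tw (Ct.Ev p.1) = tw (Ct.Ev p.2.1) := hfree _ _ q0 (e1.symm.trans e2)
            rw [hev, htw.add] at e3
            exact (mul_eq_left.mp e3.symm)
  have hR : ∀ v ∈ Ct.relV, tw v = 1 := by
    intro v hv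
    rw [← Ct.relV_eq] at hv
    obtain ⟨p, hp, rfl⟩ := List.mem_map.mp hv
    exact hrel p hp
  -- every symbol is trivial
  have hζ : ζs gs gd gu gc A = [ρA gs gd gu gc A [6, 3, 4, 1, 5, 5, 7, 4, 4, 1, 4, 4, 0, 4, 3, 0, 3, 5],
      ρA gs gd gu gc A [6, 0, 6, 1, 4, 0, 0, 5, 3, 3, 7, 1, 7, 0, 0, 5, 2, 0, 4, 0, 2, 5, 0, 2],
      ρA gs gd gu gc A [6, 0, 6, 4, 0, 4, 0, 5, 2, 2, 0, 7, 1, 7, 4, 0, 5, 3, 0, 4, 1, 1, 2, 4, 4],
      ρA gs gd gu gc A [6, 2, 1, 4, 1, 4, 0, 4, 2, 5, 7, 4, 4, 1, 5, 1, 5, 2, 1, 4, 3, 3, 1],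
      ρA gs gd gu gc A [6, 4, 0, 5, 5, 1, 1, 2, 5, 1, 1, 7, 0, 4, 2, 4, 0, 3, 5, 1, 1, 5, 3],
      ρA gs gd gu gc A [6, 1, 5, 0, 0, 6, 2, 2, 1, 5, 2, 5, 1, 5, 1, 3, 1]] := rfl
  have hkill : ∀ z : A, z ^ (23 : ℤ) = 1 → z = 1 := by
    intro z hz
    have h1 : z ^ 23 = 1 := by
      have : z ^ ((23 : ℕ) : ℤ) = 1 := hz
      rwa [zpow_natCast] at this
    have h2 : z ^ 279936000 = 1 := by
      apply Subtype.ext
      rw [Subgroup.coe_pow]
      exact S.tors _ z.2
    exact eq_one_of_pow_coprime z 23 279936000 h1 h2 (by norm_num)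
  have p0 := ltw_pow_of_lcomb (ζs gs gd gu gc A) Ct.relV hR _ _ _ Ct.pow_cert0
  have p1 := ltw_pow_of_lcomb (ζs gs gd gu gc A) Ct.relV hR _ _ _ Ct.pow_cert1
  have p2 := ltw_pow_of_lcomb (ζs gs gd gu gc A) Ct.relV hR _ _ _ Ct.pow_cert2
  have p3 := ltw_pow_of_lcomb (ζs gs gd gu gc A) Ct.relV hR _ _ _ Ct.pow_cert3
  have p4 := ltw_pow_of_lcomb (ζs gs gd gu gc A) Ct.relV hR _ _ _ Ct.pow_cert4
  have p5 := ltw_pow_of_lcomb (ζs gs gd gu gc A) Ct.relV hR _ _ _ Ct.pow_cert5
  have hall : ∀ a ∈ ζs gs gd gu gc A, a = 1 := by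
    intro a ha
    rw [hζ] at ha p0 p1 p2 p3 p4 p5
    simp only [List.mem_cons, List.not_mem_nil, or_false] at ha
    rcases ha with rfl | rfl | rfl | rfl | rfl | rfl
    · apply hkill; convert p0 using 2
      · simp [ltw]
      · rfl
    · apply hkill; convert p1 using 2
      · simp [ltw]
      · rfl
    · apply hkill; convert p2 using 2
      · simp [ltw]
      · rfl
    · apply hkill; convert p3 using 2
      · simp [ltw]
      · rfl
    · apply hkill; convert p4 using 2
      · simp [ltw]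
      · rfl
    · apply hkill; convert p5 using 2
      · simp [ltw]
      · rfl
  have htriv : ∀ α ∈ Subgroup.closure (Set.range tw), α = 1 := by
    intro α hα
    have hle : Subgroup.closure (Set.range tw) ≤ ⊥ := by
      rw [Subgroup.closure_le]
      rintro _ ⟨t, rfl⟩
      exact Subgroup.mem_bot.mpr (ltw_eq_one_of_all_one _ hall t)
    exact Subgroup.mem_bot.mp (hle hα)
  let f : Fin 48600 → Q := fun p => c p
  have hf : Function.Surjective f := by
    intro q
    obtain ⟨i, hi, α, hα, rfl⟩ := hcov q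
    refine ⟨⟨i, hi⟩, ?_⟩
    rw [htriv α hα, one_smul]
  refine ⟨Finite.of_surjective f hf, ?_⟩
  have := Nat.card_le_card_of_surjective f hf
  rwa [Nat.card_fin] at this

end final

end Cfsg.Agent.Lib.H12.Co3M
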