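import Cfsg.Agent.Lib.H12.J3M.GlueBase

set_option autoImplicit false

/-!
# Words on four generators (helper12, for the monomial certificate of `Co3` over `M23`)

Letter code: `0 = s, 1 = s⁻¹, 2 = d, 3 = d⁻¹, 4 = u, 5 = u⁻¹, 6 = c, 7 = c⁻¹`.
-/

namespace Cfsg.Agent.Lib.H12.Co3M

section letters

variable {Γ : Type*} [Group Γ]

/-- the letters on four generators -/
def gl4 (gs gd gu gc : Γ) (x : ℕ) : Γ :=
  match x with
  | 0 => gs | 1 => gs⁻¹ | 2 => gd | 3 => gd⁻¹ | 4 => gu | 5 => gu⁻¹ | 6 => gc | 7 => gc⁻¹ | _ => 1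

/-- the value of a word on four generators -/
def wv4 (gs gd gu gc : Γ) (w : List ℕ) : Γ := (w.map (gl4 gs gd gu gc)).prod

theorem map_gl4 {G : Type*} [Group G] (σ : Γ →* G) (gs gd gu gc : Γ) (x : ℕ) :
    σ (gl4 gs gd gu gc x) = gl4 (σ gs) (σ gd) (σ gu) (σ gc) x := by
  unfold gl4
  split <;> simp

theorem map_wv4 {G : Type*} [Group G] (σ : Γ →* G) (gs gd gu gc : Γ) (w : List ℕ) :
    σ (wv4 gs gd gu gc w) = wv4 (σ gs) (σ gd) (σ gu) (σ gc) w := by
  unfold wv4
  rw [map_list_prod, List.map_map]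
  congr 1
  apply List.map_congr_left
  intro x _
  exact map_gl4 σ gs gd gu gc x

theorem wv4_nil (gs gd gu gc : Γ) : wv4 gs gd gu gc [] = 1 := rfl

theorem wv4_cons (gs gd gu gc : Γ) (x : ℕ) (w : List ℕ) :
    wv4 gs gd gu gc (x :: w) = gl4 gs gd gu gc x * wv4 gs gd gu gc w := by
  simp [wv4]

theorem wv4_append (gs gd gu gc : Γ) (v w : List ℕ) :
    wv4 gs gd gu gc (v ++ w) = wv4 gs gd gu gc v * wv4 gs gd gu gc w := by
  simp [wv4]

theorem wv4_replicate6 (gs gd gu gc : Γ) (n : ℕ) : wv4 gs gd gu gc (List.replicate n 6) = gc ^ n := by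
  unfold wv4
  rw [List.map_replicate, List.prod_replicate]
  rfl

/-- the inverse word -/
def invW (w : List ℕ) : List ℕ := (w.map fun x => x ^^^ 1).reverse

theorem gl4_xor (gs gd gu gc : Γ) (x : ℕ) (hx : x < 8) :
    gl4 gs gd gu gc (x ^^^ 1) = (gl4 gs gd gu gc x)⁻¹ := by
  interval_cases x <;> simp [gl4]

theorem wv4_invW (gs gd gu gc : Γ) (w : List ℕ) (hw : ∀ x ∈ w, x < 8) :
    wv4 gs gd gu gc (invW w) = (wv4 gs gd gu gc w)⁻¹ := by
  induction w with
  | nil => simp [invW, wv4]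
  | cons x w ih =>
    have h1 : invW (x :: w) = invW w ++ [x ^^^ 1] := by simp [invW]
    rw [h1, wv4_append, ih (fun y hy => hw y (List.mem_cons_of_mem _ hy)), wv4_cons, wv4_cons,
      wv4_nil, mul_one, gl4_xor _ _ _ _ x (hw x List.mem_cons_self), mul_inv_rev]

theorem gl4_mem_of_lt6 (gs gd gu gc : Γ) (x : ℕ) (hx : x < 6) :
    gl4 gs gd gu gc x ∈ Subgroup.closure ({gs, gd, gu} : Set Γ) := by
  have hs : gs ∈ Subgroup.closure ({gs, gd, gu} : Set Γ) := Subgroup.subset_closure (by simp)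
  have hd : gd ∈ Subgroup.closure ({gs, gd, gu} : Set Γ) := Subgroup.subset_closure (by simp)
  have hu : gu ∈ Subgroup.closure ({gs, gd, gu} : Set Γ) := Subgroup.subset_closure (by simp)
  interval_cases x
  · exact hs
  · exact inv_mem hs
  · exact hd
  · exact inv_mem hd
  · exact hu
  · exact inv_mem hu

/-- a word in the letters `0 … 5` has its value in `⟨s, d, u⟩` -/
theorem wv4_mem_of_lt6 (gs gd gu gc : Γ) (w : List ℕ) (hw : ∀ x ∈ w, x < 6) :
    wv4 gs gd gu gc w ∈ Subgroup.closure ({gs, gd, gu} : Set Γ) := by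
  induction w with
  | nil => rw [wv4_nil]; exact one_mem _
  | cons x w ih =>
    rw [wv4_cons]
    exact mul_mem (gl4_mem_of_lt6 gs gd gu gc x (hw x List.mem_cons_self))
      (ih fun y hy => hw y (List.mem_cons_of_mem _ hy))

/-- a word in the letters `0 … 5` does not depend on `c` -/
theorem wv4_congr_of_lt6 (gs gd gu gc gc' : Γ) (w : List ℕ) (hw : ∀ x ∈ w, x < 6) :
    wv4 gs gd gu gc w = wv4 gs gd gu gc' w := by
  induction w with
  | nil => rfl
  | cons x w ih =>
    rw [wv4_cons, wv4_cons, ih fun y hy => hw y (List.mem_cons_of_mem _ hy)]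
    congr 1
    have hx := hw x List.mem_cons_self
    interval_cases x <;> rfl

end letters

end Cfsg.Agent.Lib.H12.Co3M
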